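import Groth.Agent.Lib.EtCompact28.Etale
import Groth.Agent.Lib.EtJ.PullExact
import Groth.Agent.Lib.DerCat.KInjExists

/-!
# Sections over affine étale schemes detect zero in the derived category
-/

set_option linter.style.haveILetI false

universe w u

open CategoryTheory CategoryTheory.Limits AlgebraicGeometry Opposite CategoryTheory.Abelian
open Groth.Agent.Lib.DerCat Groth.Agent.H88.EtMod

noncomputable section

namespace Groth.Agent.Lib.EtCompact28.Detect

variable {X : Scheme.{u}}

/-- Affine objects of the étale site. -/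
def Aff (X : Scheme.{u}) : Type (u + 1) := { U : X.Etale // IsAffine U.left }

theorem hom_eq_zero_of_affine {F G : EtCoh.Ab X} (g : F ⟶ G)
    (h : ∀ (U : Aff X) (x : (ExtColim.local' U.1).Z ⟶ F), x ≫ g = 0) : g = 0 := by
  refine Sheaf.hom_ext (NatTrans.ext (funext fun V' => ?_))
  obtain ⟨V⟩ := V'
  ext s
  let W : V.left.affineOpens → X.Etale := fun O =>
    haveI : Etale V.hom := V.prop
    Scheme.Etale.mk (O.1.ι ≫ V.hom)
  let a : ∀ O, W O ⟶ V := fun O => MorphismProperty.Over.homMk O.1.ι rfl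
  have hcov : Sieve.ofArrows W a ∈ X.smallEtaleTopology V :=
    Groth.Agent.Lib.EtSite.Basic.ofArrows_mem _ _ fun v => by
      obtain ⟨_, ⟨(O : V.left.Opens), hO, rfl⟩, hvO, -⟩ :=
        V.left.isBasis_affineOpens.exists_subset_of_mem_open (Set.mem_univ v) isOpen_univ
      exact ⟨⟨O, hO⟩, ⟨v, hvO⟩, rfl⟩
  refine (FilteredSections.existsUnique_glue (A := AddCommGrpCat.{u + 1}) G a hcov
    (fun _ => 0) fun i j => by rw [map_zero, map_zero]).unique (fun O => ?_) fun O => map_zero _
  refine (NatTrans.naturality_apply g.hom (a O).op s).symm.trans ?_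
  let S := ExtColim.local' (W O)
  obtain ⟨x, hx⟩ := (Ext.mk₀_bijective _ _).2 ((S.e F).symm (F.obj.map (a O).op s))
  have hs : F.obj.map (a O).op s = S.e F (Ext.mk₀ x) := by rw [hx, AddEquiv.apply_symm_apply]
  refine (congrArg (fun t => g.hom.app (op (W O)) t) hs).trans ?_
  refine (S.natural g _).trans ?_
  rw [Ext.mk₀_comp_mk₀, h ⟨W O, O.2⟩ x, Ext.mk₀_zero, map_zero]

variable [HasDerivedCategory.{w} (EtCoh.Ab X)]

/-- Sections over affines detect zero. -/
theorem isZero_of_hom_eq_zero [IsGrothendieckAbelian.{u + 1} (EtCoh.Ab X)]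
    (K : DerivedCategory (EtCoh.Ab X))
    (h : ∀ (U : Aff X) (n : ℤ) (f : (shiftFunctor _ n).obj
      ((DerivedCategory.singleFunctor (EtCoh.Ab X) 0).obj (ExtColim.local' U.1).Z) ⟶ K), f = 0) :
    IsZero K := by
  obtain ⟨J, q, hJ, hq, -, -⟩ :=
    KInjExists.exists_kInjective_resolution (DerivedCategory.Q.objPreimage K)
  let e : DerivedCategory.Qh.obj ((HomotopyCategory.quotient _ (.up ℤ)).obj J) ≅ K :=
    (DerivedCategory.quotientCompQhIso _).app J ≪≫ (asIso (DerivedCategory.Q.map q)).symm ≪≫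
      DerivedCategory.Q.objObjPreimageIso K
  haveI := DerivedOX.RightDerived.isLeftAdjoint_Qh (A := EtCoh.Ab X) KInjExists.hasKInjRes
  refine IsZero.of_iso (DerivedOX.RightDerived.isZero_Qh_obj_of_acyclic fun n => ?_) e.symm
  rw [HomologicalComplex.exactAt_iff' _ (n - 1) n (n + 1) (by simp) (by simp),
    ShortComplex.exact_iff_epi_toCycles]
  set S := J.sc' (n - 1) n (n + 1)
  refine Preadditive.epi_of_cancel_zero _ fun g hg => hom_eq_zero_of_affine g fun U x => ?_
  let φ : (HomologicalComplex.single (EtCoh.Ab X) (.up ℤ) n).obj (ExtColim.local' U.1).Z ⟶ J :=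
    HomologicalComplex.mkHomFromSingle (x ≫ S.iCycles) fun k hk => by
      obtain rfl : n + 1 = k := hk
      exact (Category.assoc _ _ _).trans ((congrArg (x ≫ ·) S.iCycles_g).trans comp_zero)
  have h0 : (HomotopyCategory.quotient _ (.up ℤ)).map φ = 0 := by
    apply (CochainComplex.IsKInjective.Qh_map_bijective
      ((HomotopyCategory.quotient _ (.up ℤ)).obj
        ((HomologicalComplex.single (EtCoh.Ab X) (.up ℤ) n).obj (ExtColim.local' U.1).Z)) J).1
    rw [Functor.map_zero]
    let σ : (shiftFunctor _ (-n)).obj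
        ((DerivedCategory.singleFunctor (EtCoh.Ab X) 0).obj (ExtColim.local' U.1).Z) ≅
        DerivedCategory.Qh.obj ((HomotopyCategory.quotient _ (.up ℤ)).obj
          ((HomologicalComplex.single (EtCoh.Ab X) (.up ℤ) n).obj (ExtColim.local' U.1).Z)) :=
      ((DerivedCategory.singleFunctors (EtCoh.Ab X)).shiftIso (-n) n 0 (by omega)).app _ ≪≫
        ((DerivedCategory.quotientCompQhIso (EtCoh.Ab X)).app _).symm
    exact zero_of_comp_mono e.hom (zero_of_epi_comp σ.hom (h U (-n) _))
  let hmt := HomotopyCategory.homotopyOfEq _ _ (h0.trans (Functor.map_zero _ _ _).symm)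
  have hc := hmt.comm n
  rw [dNext_eq _ (show (ComplexShape.up ℤ).Rel n (n + 1) from rfl),
    prevD_eq _ (show (ComplexShape.up ℤ).Rel (n - 1) n by simp), HomologicalComplex.single_obj_d,
    zero_comp, zero_add, HomologicalComplex.zero_f, add_zero,
    HomologicalComplex.mkHomFromSingle_f] at hc
  let y : (ExtColim.local' U.1).Z ⟶ S.X₁ :=
    (HomologicalComplex.singleObjXSelf (.up ℤ) n (ExtColim.local' U.1).Z).inv ≫ hmt.hom n (n - 1)
  have hx : x = y ≫ S.toCycles := by
    refine (cancel_mono S.iCycles).1 (Eq.trans ?_ ((Category.assoc y _ _).trans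
      (congrArg (y ≫ ·) S.toCycles_i)).symm)
    refine Eq.trans ?_ (Category.assoc _ _ _).symm
    exact (Iso.inv_hom_id_assoc _ _).symm.trans (congrArg ((HomologicalComplex.singleObjXSelf
      (.up ℤ) n (ExtColim.local' U.1).Z).inv ≫ ·) hc)
  exact (congrArg (· ≫ g) hx).trans ((Category.assoc y _ g).trans ((congrArg (y ≫ ·) hg).trans comp_zero))

end Groth.Agent.Lib.EtCompact28.Detect
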