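import Groth.Agent.Lib.EtCompact28.Gen
import Groth.Agent.Lib.DerCat.PresCoprod
import Groth.Agent.H88.EtMod.ExtColim
import Groth.Agent.H88.EtMod.CohColimL
import Groth.Agent.Lib.EtJ.Coh
import Mathlib.CategoryTheory.Limits.Constructions.Filtered
import Mathlib.CategoryTheory.Preadditive.Injective.Basic

/-!
# Objects corepresenting sections over quasi-compact quasi-separated étale schemes are compact
-/

set_option linter.style.haveILetI false

universe u

open CategoryTheory CategoryTheory.Limits AlgebraicGeometry Opposite CategoryTheory.Abelian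
open Groth.Agent.Lib.DerCat Groth.Agent.H88.EtMod
open Groth.Agent.Lib.SiteCoh.CechAcyclic

noncomputable section

namespace Groth.Agent.Lib.EtCompact28.Etale

variable {X : Scheme.{u}} {U : X.Etale} (S : ExtColim.Sect U)

/-- Degree zero `Ext` is given by sections. -/
def extZeroIso : (sheafToPresheaf X.smallEtaleTopology AddCommGrpCat.{u + 1} ⋙
    (evaluation _ _).obj (op U)) ≅ (extFunctor 0).obj (op S.Z) :=
  NatIso.ofComponents (fun F => (S.e F).symm.toAddCommGrpIso) fun {F G} φ => by
    ext s
    change (S.e G).symm (φ.hom.app (op U) s) = ((S.e F).symm s).comp (Ext.mk₀ φ) (add_zero 0)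
    rw [AddEquiv.symm_apply_eq, ← S.natural, AddEquiv.apply_symm_apply]

variable [CompactSpace U.left] [QuasiSeparatedSpace U.left]

theorem preservesCoproducts_zero (ι : Type (u + 1)) :
    PreservesColimitsOfShape (Discrete ι) ((extFunctor 0).obj (op S.Z)) := by
  haveI : PreservesFilteredColimitsOfSize.{u + 1, u + 1} (forget AddCommGrpCat.{u + 1}) :=
    inferInstance
  haveI : PreservesColimitsOfShape (Finset (Discrete ι)) ((extFunctor 0).obj (op S.Z)) := by
    haveI := FilteredSections.preservesColimits (I := Finset (Discrete ι))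
      (A := AddCommGrpCat.{u + 1}) U
    exact preservesColimitsOfShape_of_natIso (extZeroIso S)
  haveI : ((extFunctor 0).obj (op S.Z)).Additive := inferInstance
  exact PresCoprod.preservesColimitsOfShape_discrete _ ι

omit [CompactSpace U.left] [QuasiSeparatedSpace U.left] in
theorem acy_of_iso {F G : EtCoh.Ab X} (e : F ≅ G) (h : CohColim.Acy F) : CohColim.Acy G :=
  fun V hc hq κ _ Uf hUf p => (h V hc hq κ Uf hUf p).of_iso
    ((sheafToPresheaf X.smallEtaleTopology AddCommGrpCat.{u + 1} ⋙
      EtCech.cechHFunctor Uf (p + 1)).mapIso e.symm)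

omit [CompactSpace U.left] [QuasiSeparatedSpace U.left] in
theorem acy_coproduct {ι : Type (u + 1)} (I : ι → EtCoh.Ab X) (hI : ∀ i, Injective (I i)) :
    CohColim.Acy (∐ I) := by
  classical
  let D := CoproductsFromFiniteFiltered.liftToFinsetObj (Discrete.functor I)
  let hc := CoproductsFromFiniteFiltered.isColimitFiniteSubproductsCocone I
  let e : colimit D ≅ ∐ I := IsColimit.coconePointUniqueUpToIso (colimit.isColimit D) hc
  refine acy_of_iso e ?_
  refine CohColimL.acy_colimit D fun s => ?_
  haveI : Injective (D.obj s) := by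
    haveI : ∀ x : ↥s, Injective ((Discrete.functor I).obj x.1) := fun x => hI x.1.as
    exact Injective.of_iso (biproduct.isoCoproduct fun x : ↥s => (Discrete.functor I).obj x.1) inferInstance
  exact CohColim.acy_of_injective _

theorem ext_eq_zero_of_H (q : ℕ) : ∀ (F : EtCoh.Ab X),
    Subsingleton (EtCoh.H U.left ((EtCoh.pull U.hom).obj F) (q + 1)) →
      ∀ x : Ext S.Z F (q + 1), x = 0 := by
  induction q with
  | zero =>
    intro F hF x
    have hS := CohColim.emb_shortExact F
    obtain ⟨y, rfl⟩ := connHom_surjective hS _ 0 (fun x => Ext.eq_zero_of_injective x) x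
    rw [connHom_eq_zero_iff]
    obtain ⟨t, ht⟩ := EtJ.Coh.sections_surjective (W := U) hS hF (S.e _ y)
    refine ⟨(S.e _).symm t, (S.e _).injective ?_⟩
    refine (S.natural _ _).symm.trans ?_
    rw [AddEquiv.apply_symm_apply]
    exact ht
  | succ q ih =>
    intro F hF x
    have hS := CohColim.emb_shortExact F
    obtain ⟨y, rfl⟩ := connHom_surjective hS _ (q + 1) (fun x => Ext.eq_zero_of_injective x) x
    rw [ih _ (EtJ.Coh.subsingleton_right (W := U) hS hF
      (EtJ.Coh.subsingleton_of_injective U _ (q + 1) (Nat.succ_pos q))) y, map_zero]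

/-- An object corepresenting sections over a quasi-compact quasi-separated `U` of finite
cohomological dimension is compact. -/
theorem isCompactObject [IsGrothendieckAbelian.{u + 1} (EtCoh.Ab X)]
    [HasDerivedCategory.{u + 1} (EtCoh.Ab X)]
    [HasCoproducts.{u + 1} (DerivedCategory (EtCoh.Ab X))]
    (d : ℕ) (hd : ∀ (F : EtCoh.Ab U.left) (q : ℕ), d < q → Subsingleton (EtCoh.H U.left F q)) :
    CohDer.IsCompactObject ((DerivedCategory.singleFunctor (EtCoh.Ab X) 0).obj S.Z) :=
  Gen.isCompactObject (fun ι => preservesCoproducts_zero S ι)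
    (fun ι I hI p x => ExtColim.ext_succ_eq_zero S (acy_coproduct I hI) p x) d fun F q x hq => by
      obtain ⟨q, rfl⟩ := Nat.exists_eq_succ_of_ne_zero (Nat.ne_of_gt (lt_of_le_of_lt (Nat.zero_le _) hq))
      exact ext_eq_zero_of_H S q F (hd _ _ hq) x

end Groth.Agent.Lib.EtCompact28.Etale
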