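import Groth.Agent.Lib.CohomColim.FreeCompact
import Groth.Agent.Lib.DerCat.DerAdj
import Groth.Agent.Lib.DerCat.ModGen
import Mathlib.CategoryTheory.Triangulated.Yoneda

/-!
# Compactness from acyclicity of sums of injectives, and right adjoints preserving sums
-/

set_option linter.style.haveILetI false

universe w v u u'

open CategoryTheory CategoryTheory.Limits CategoryTheory.Abelian CategoryTheory.Pretriangulated
open Groth.Agent.Lib.DerCat Groth.Agent.Lib.DerivedOX.RightDerived

namespace Groth.Agent.Lib.EtCompact28.Gen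

section Compact

variable {A : Type u} [Category.{v} A] [Abelian A] [IsGrothendieckAbelian.{v} A] [HasExt.{v} A]
  [HasDerivedCategory.{v} A] [HasCoproducts.{v} (DerivedCategory A)] {P : A}

open CohomColim.FreeCompact CochainComplex

/-- An object of finite cohomological dimension whose higher `Ext` into sums of injectives vanish and
whose maps into sums are finitely supported is compact. -/
theorem isCompactObject
    (h0 : ∀ ι : Type v, PreservesColimitsOfShape (Discrete ι) ((extFunctor 0).obj (Opposite.op P)))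
    (hI : ∀ (ι : Type v) (I : ι → A), (∀ i, Injective (I i)) → ∀ (p : ℕ) (x : Ext P (∐ I) (p + 1)), x = 0)
    (d : ℕ) (hd : ∀ (Y : A) (q : ℕ) (x : Ext P Y q), d < q → x = 0) :
    CohDer.IsCompactObject ((DerivedCategory.singleFunctor A 0).obj P) := by
  refine (Compact.isCompactObject_iff _).2 fun ι M f => ?_
  have hL : ∀ i, ∃ (L : CochainComplex A ℤ) (_ : DerivedCategory.Q.obj L ≅ M i),
      ∀ j, Injective (L.X j) := fun i => by
    obtain ⟨L, q, -, hq, -, hL⟩ :=
      KInjExists.exists_kInjective_resolution (DerivedCategory.Q.objPreimage (M i))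
    exact ⟨L, (asIso (DerivedCategory.Q.map q)).symm ≪≫ DerivedCategory.Q.objObjPreimageIso (M i), hL⟩
  choose L e hinj using hL
  obtain ⟨J, q, hJK, hq, -, hJ⟩ := KInjExists.exists_kInjective_resolution (∐ L)
  haveI := h0 ι
  have hterms : ∀ (j : ℤ) (p : ℕ) (x : Ext P ((mappingCone q).X j) (p + 1)), x = 0 := by
    intro j p x
    have hN : ∀ y : Ext P ((∐ L).X (j + 1)) (p + 1), y = 0 := fun y => by
      have hu : HProd.descX L (Sigma.ι fun i => (L i).X (j + 1)) ≫
          Sigma.desc (fun i => (Sigma.ι L i).f (j + 1)) = 𝟙 _ := HProd.hom_ext_f L fun i => by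
        rw [← Category.assoc, HProd.ι_descX, Sigma.ι_desc, Category.comp_id]
      rw [← Ext.comp_mk₀_id y, ← hu, ← Ext.mk₀_comp_mk₀, ← Ext.comp_assoc_of_second_deg_zero,
        hI ι _ (fun i => hinj i (j + 1)) p (y.comp _ (add_zero _)), Ext.zero_comp]
    have hid := mappingCone.id_X q j (j + 1) rfl
    haveI := hJ j
    rw [← Ext.comp_mk₀_id x, ← hid, Ext.mk₀_add, Ext.comp_add, ← Ext.mk₀_comp_mk₀, ← Ext.mk₀_comp_mk₀,
      ← Ext.comp_assoc_of_second_deg_zero, ← Ext.comp_assoc_of_second_deg_zero, hN (x.comp _ _),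
      Ext.eq_zero_of_injective (x.comp (Ext.mk₀ ((mappingCone.snd q).v j j (add_zero j))) _),
      Ext.zero_comp, Ext.zero_comp, add_zero]
  refine mem_range L e (exists_chainMap q fun j x => ?_) f
  exact ext_cycles_eq_zero_of_dim ((RFAcyclic.quasiIso_iff_acyclic_mappingCone q).1 inferInstance)
    hterms d hd j 0 x

end Compact

section Adjoint

variable {D : Type u} [Category.{v} D] [Preadditive D] [HasZeroObject D] [HasShift D ℤ]
  [∀ n : ℤ, (shiftFunctor D n).Additive] [Pretriangulated D]
  {D' : Type u'} [Category.{v} D'] [Preadditive D'] [HasCoproducts.{v} D] [HasCoproducts.{v} D']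
  {L : D ⥤ D'} {R : D' ⥤ D} [L.Additive] [R.Additive]

/-- A right adjoint preserves direct sums when the left adjoint sends a detecting family of compact
objects to compact objects. -/
theorem preservesCoproducts (adj : L ⊣ R) {κ : Type*} (E : κ → D)
    (hdet : ∀ Z : D, (∀ (k : κ) (n : ℤ) (f : (shiftFunctor D n).obj (E k) ⟶ Z), f = 0) → IsZero Z)
    (hE : ∀ (k : κ) (n : ℤ), CohDer.IsCompactObject ((shiftFunctor D n).obj (E k)))
    (hLE : ∀ (k : κ) (n : ℤ), CohDer.IsCompactObject (L.obj ((shiftFunctor D n).obj (E k))))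
    (ι : Type v) : PreservesColimitsOfShape (Discrete ι) R := by
  classical
  suffices key : ∀ M : ι → D', IsIso (sigmaComparison R M) from
    ⟨fun {F} => by
      haveI := key fun i => F.obj ⟨i⟩
      haveI := PreservesCoproduct.of_iso_comparison R fun i => F.obj ⟨i⟩
      exact preservesColimit_of_iso_diagram (K₁ := Discrete.functor fun i => F.obj ⟨i⟩) R
        Discrete.natIsoFunctor.symm⟩
  intro M
  let c := sigmaComparison R M
  have hproj : ∀ i, c ≫ R.map (Compact.proj M i) = Compact.proj (fun j => R.obj (M j)) i := fun i => by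
    refine Sigma.hom_ext _ _ fun j => ?_
    rw [ι_comp_sigmaComparison_assoc, ← R.map_comp]
    by_cases h : j = i
    · subst h
      rw [Compact.ι_proj, Compact.ι_proj, R.map_id]
    · rw [Compact.ι_proj_ne M h, Compact.ι_proj_ne (fun j => R.obj (M j)) h, R.map_zero]
  have hsurj : ∀ (k : κ) (n : ℤ) (g : (shiftFunctor D n).obj (E k) ⟶ R.obj (∐ M)),
      ∃ y, y ≫ c = g := fun k n g => by
    obtain ⟨s, hs⟩ := Compact.exists_cut _ ((Compact.isCompactObject_iff _).1 (hLE k n) ι M
      ((adj.homEquiv _ _).symm g))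
    refine ⟨∑ i ∈ s, (g ≫ R.map (Compact.proj M i)) ≫ Sigma.ι (fun j => R.obj (M j)) i, ?_⟩
    conv_rhs => rw [← (adj.homEquiv _ _).apply_symm_apply g, ← hs, Adjunction.homEquiv_naturality_right,
      Equiv.apply_symm_apply, Compact.cut, Functor.map_sum, Preadditive.comp_sum]
    rw [Preadditive.sum_comp]
    refine Finset.sum_congr rfl fun i _ => ?_
    simp [c, ι_comp_sigmaComparison]
  have hinj : ∀ (k : κ) (n : ℤ) (y : (shiftFunctor D n).obj (E k) ⟶ ∐ fun j => R.obj (M j)),
      y ≫ c = 0 → y = 0 := fun k n y hy => by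
    obtain ⟨s, hs⟩ := Compact.exists_cut _ ((Compact.isCompactObject_iff _).1 (hE k n) ι _ y)
    rw [← hs, Compact.cut, Preadditive.comp_sum]
    refine Finset.sum_eq_zero fun i _ => ?_
    rw [← Category.assoc, ← hproj i, ← Category.assoc, hy, zero_comp, zero_comp]
  obtain ⟨Z, g, h, hT⟩ := distinguished_cocone_triangle c
  refine (Triangle.isZero₃_iff_isIso₁ _ hT).1 (hdet Z fun k n f => ?_)
  have hf : f ≫ h = 0 := by
    let σ : (shiftFunctor D n).obj (E k) ≅
        (shiftFunctor D (1 : ℤ)).obj ((shiftFunctor D (n - 1)).obj (E k)) :=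
      (shiftFunctorAdd' D (n - 1) 1 n (by omega)).app (E k)
    obtain ⟨y, hy⟩ := (shiftFunctor D (1 : ℤ)).map_surjective (σ.inv ≫ f ≫ h)
    have hz : y ≫ c = 0 := by
      apply (shiftFunctor D (1 : ℤ)).map_injective
      rw [Functor.map_comp, Functor.map_zero, hy]
      have h31 : h ≫ (shiftFunctor D (1 : ℤ)).map c = 0 := comp_distTriang_mor_zero₃₁ _ hT
      rw [Category.assoc, Category.assoc, h31, comp_zero, comp_zero]
    rw [hinj k (n - 1) y hz, Functor.map_zero] at hy
    rw [← cancel_epi σ.inv, ← hy, comp_zero]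
  obtain ⟨x, hx⟩ := Triangle.coyoneda_exact₃ _ hT f hf
  obtain ⟨y, rfl⟩ := hsurj k n x
  have h12 : c ≫ g = 0 := comp_distTriang_mor_zero₁₂ _ hT
  exact hx.trans ((Category.assoc y c g).trans ((congrArg (y ≫ ·) h12).trans comp_zero))

end Adjoint

end Groth.Agent.Lib.EtCompact28.Gen
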