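import Groth.Agent.Lib.EtCompact28.Detect
import Groth.Prelude.Def_DCoh2
import Groth.Agent.Lib.DerCat.HProd

/-!
# Direct images of étale sheaves commute with direct sums
-/

set_option linter.style.haveILetI false

universe w₁ w₂ w₃ w₄ v v' u u'

open CategoryTheory CategoryTheory.Limits AlgebraicGeometry Opposite CategoryTheory.Abelian
open Groth.Agent.Lib.DerCat Groth.Agent.H88.EtMod Groth.Agent.Lib.DerivedOX.RightDerived

noncomputable section

namespace Groth.Agent.Lib.EtCompact28.Main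

section Transfer

variable {A : Type u} [Category.{v} A] [Abelian A] {B : Type u'} [Category.{v'} B] [Abelian B]
  (i₁ : HasDerivedCategory.{w₁} A) (i₂ : HasDerivedCategory.{w₂} A)
  (j₁ : HasDerivedCategory.{w₃} B) (j₂ : HasDerivedCategory.{w₄} B)

theorem transfer (G : A ⥤ B) [G.Additive]
    [h₁ : (letI := i₁; (DerivedCategory.Qh (C := A)).IsLeftAdjoint)]
    [h₂ : (letI := i₂; (DerivedCategory.Qh (C := A)).IsLeftAdjoint)] (ι : Type*)
    (h : PreservesColimitsOfShape (Discrete ι) (letI := i₁; letI := j₁;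
      resFunctor A ⋙ G.mapHomotopyCategory (.up ℤ) ⋙ DerivedCategory.Qh)) :
    PreservesColimitsOfShape (Discrete ι) (letI := i₂; letI := j₂;
      resFunctor A ⋙ G.mapHomotopyCategory (.up ℤ) ⋙ DerivedCategory.Qh) := by
  let L₁ := @DerivedCategory.Qh A _ _ i₁
  let L₂ := @DerivedCategory.Qh A _ _ i₂
  let M₁ := @DerivedCategory.Qh B _ _ j₁
  let M₂ := @DerivedCategory.Qh B _ _ j₂
  let W := HomotopyCategory.quasiIso A (ComplexShape.up ℤ)
  let W' := HomotopyCategory.quasiIso B (ComplexShape.up ℤ)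
  haveI : L₁.IsLocalization W := (letI := i₁; inferInstance)
  haveI : L₂.IsLocalization W := (letI := i₂; inferInstance)
  haveI : M₁.IsLocalization W' := (letI := j₁; inferInstance)
  haveI : M₂.IsLocalization W' := (letI := j₂; inferInstance)
  let EA := Localization.uniq L₁ L₂ W
  let EB := Localization.uniq M₁ M₂ W'
  let R₁ := @resFunctor A _ _ i₁ h₁
  let R₂ := @resFunctor A _ _ i₂ h₂
  let adj₁ : L₁ ⊣ R₁ := @resAdj A _ _ i₁ h₁
  let adj₂ : L₂ ⊣ R₂ := @resAdj A _ _ i₂ h₂
  let e : R₂ ≅ EA.inverse ⋙ R₁ :=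
    adj₂.rightAdjointUniq ((adj₁.comp EA.toAdjunction).ofNatIsoLeft (Localization.compUniqFunctor L₁ L₂ W))
  let GK := G.mapHomotopyCategory (ComplexShape.up ℤ)
  let e' : EA.inverse ⋙ (R₁ ⋙ GK ⋙ M₁) ⋙ EB.functor ≅ R₂ ⋙ GK ⋙ M₂ :=
    Functor.isoWhiskerLeft EA.inverse (Functor.associator _ _ _ ≪≫
      Functor.isoWhiskerLeft R₁ (Functor.associator _ _ _ ≪≫
        Functor.isoWhiskerLeft GK (Localization.compUniqFunctor M₁ M₂ W'))) ≪≫
      (Functor.associator _ _ _).symm ≪≫ Functor.isoWhiskerRight e.symm (GK ⋙ M₂)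
  haveI : PreservesColimitsOfShape (Discrete ι) (R₁ ⋙ GK ⋙ M₁) := h
  exact preservesColimitsOfShape_of_natIso e'

end Transfer

section Small

variable {X S : Scheme.{u}} (f : X ⟶ S)

/-- The inverse image of an object corepresenting sections. -/
def pullSect (U : S.Etale) : ExtColim.Sect ((EtCoh.bc f).obj U) where
  Z := (EtCoh.pull f).obj (ExtColim.local' U).Z
  e G := Ext.addEquiv₀.trans (((EtCoh.pullPushAdj f).homAddEquiv _ G).trans
    (Ext.addEquiv₀.symm.trans ((ExtColim.local' U).e ((EtCoh.push f).obj G))))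
  natural {F G} φ x := by
    obtain ⟨a, rfl⟩ := (Ext.mk₀_bijective _ _).2 x
    rw [Ext.mk₀_comp_mk₀]
    simp only [AddEquiv.trans_apply, Ext.addEquiv₀_symm_apply, Adjunction.homAddEquiv_apply]
    have ha : ∀ {Y : EtCoh.Ab X} (b : (EtCoh.pull f).obj (ExtColim.local' U).Z ⟶ Y),
        Ext.addEquiv₀ (Ext.mk₀ b) = b := fun b => Ext.addEquiv₀.apply_symm_apply b
    rw [ha, ha, Adjunction.homEquiv_naturality_right]
    exact ((ExtColim.local' U).natural ((EtCoh.push f).map φ)
        (Ext.mk₀ ((EtCoh.pullPushAdj f).homEquiv _ F a))).trans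
      (congrArg ((ExtColim.local' U).e _) (Ext.mk₀_comp_mk₀ _ _))

variable [QuasiCompact f] [QuasiSeparated f]
  [IsGrothendieckAbelian.{u + 1} (EtCoh.Ab X)] [IsGrothendieckAbelian.{u + 1} (EtCoh.Ab S)]
  [HasDerivedCategory.{u + 1} (EtCoh.Ab X)] [HasDerivedCategory.{u + 1} (EtCoh.Ab S)]
  [(DerivedCategory.Qh (C := EtCoh.Ab X)).IsLeftAdjoint]
  [(DerivedCategory.Qh (C := EtCoh.Ab S)).IsLeftAdjoint]

theorem preserves_small
    (hS : ∀ U : S.Etale, CompactSpace ↥(U.left) → QuasiSeparatedSpace ↥(U.left) →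
      ∃ d : ℕ, ∀ (F : EtCoh.Ab U.left) (q : ℕ), d < q → Subsingleton (EtCoh.H U.left F q))
    (hX : ∀ U : X.Etale, CompactSpace ↥(U.left) → QuasiSeparatedSpace ↥(U.left) →
      ∃ d : ℕ, ∀ (F : EtCoh.Ab U.left) (q : ℕ), d < q → Subsingleton (EtCoh.H U.left F q))
    (ι : Type (u + 1)) :
    PreservesColimitsOfShape (Discrete ι)
      (resFunctor (EtCoh.Ab X) ⋙ (EtCoh.push f).mapHomotopyCategory (.up ℤ) ⋙ DerivedCategory.Qh) := by
  haveI hcX : HasCoproducts.{u + 1} (DerivedCategory (EtCoh.Ab X)) :=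
    fun J => HProd.hasColimitsOfShape_derivedCategory (J := J)
  haveI hcS : HasCoproducts.{u + 1} (DerivedCategory (EtCoh.Ab S)) :=
    fun J => HProd.hasColimitsOfShape_derivedCategory (J := J)
  haveI : PreservesColimitsOfSize.{0, 0} (EtCoh.pull f) :=
    (EtCoh.pullPushAdj f).leftAdjoint_preservesColimits
  haveI : PreservesFiniteColimits (EtCoh.pull f) := PreservesColimitsOfSize.preservesFiniteColimits _
  let adj := DerAdj.derivedAdj (EtCoh.pullPushAdj f)
  haveI : (EtCoh.pull f).mapDerivedCategory.Additive := inferInstance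
  haveI := adj.right_adjoint_additive
  refine Gen.preservesCoproducts adj
    (fun U : Detect.Aff S =>
      (DerivedCategory.singleFunctor (EtCoh.Ab S) 0).obj (ExtColim.local' U.1).Z)
    (fun Z h => Detect.isZero_of_hom_eq_zero Z h) (fun U n => ?_) (fun U n => ?_) ι
  · haveI := U.2
    obtain ⟨d, hd⟩ := hS U.1 inferInstance inferInstance
    exact Compact.isCompactObject_shift (Etale.isCompactObject (ExtColim.local' U.1) d hd) n
  · haveI := U.2
    have hqc : QuasiCompact (pullback.fst U.1.hom f) :=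
      MorphismProperty.of_isPullback (P := @QuasiCompact) (IsPullback.of_hasPullback U.1.hom f).flip ‹QuasiCompact f›
    have hqs : QuasiSeparated (pullback.fst U.1.hom f) :=
      MorphismProperty.of_isPullback (P := @QuasiSeparated) (IsPullback.of_hasPullback U.1.hom f).flip ‹QuasiSeparated f›
    haveI : QuasiSeparatedSpace ((𝟭 Scheme).obj U.1.left) := inferInstanceAs (QuasiSeparatedSpace U.1.left)
    haveI : CompactSpace ((𝟭 Scheme).obj U.1.left) := inferInstanceAs (CompactSpace U.1.left)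
    haveI : CompactSpace ((EtCoh.bc f).obj U.1).left :=
      @QuasiCompact.compactSpace_of_compactSpace _ _ (pullback.fst U.1.hom f) hqc _
    haveI : QuasiSeparatedSpace ((EtCoh.bc f).obj U.1).left :=
      @quasiSeparatedSpace_of_quasiSeparated _ _ (pullback.fst U.1.hom f) _ hqs
    obtain ⟨d, hd⟩ := hX ((EtCoh.bc f).obj U.1) inferInstance inferInstance
    refine Compact.isCompactObject_of_iso ?_
      (Compact.isCompactObject_shift (Etale.isCompactObject (pullSect f U.1) d hd) n)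
    exact (shiftFunctor _ n).mapIso ((((EtCoh.pull f).mapDerivedCategorySingleFunctor 0).app
        (ExtColim.local' U.1).Z).symm) ≪≫
      (((EtCoh.pull f).mapDerivedCategory.commShiftIso n).app _).symm

end Small

/-- The total derived direct image commutes with direct sums under finite cohomological dimension. -/
theorem rpushEt {X S : Scheme.{u}} (f : X ⟶ S) [QuasiCompact f] [QuasiSeparated f]
    (iX : HasDerivedCategory.{w₁} (EtCoh.Ab X)) (iS : HasDerivedCategory.{w₂} (EtCoh.Ab S))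
    [hh : (letI := iX; (DerivedCategory.Qh (C := EtCoh.Ab X)).IsLeftAdjoint)]
    (hS : ∀ U : S.Etale, CompactSpace ↥(U.left) → QuasiSeparatedSpace ↥(U.left) →
      ∃ d : ℕ, ∀ (F : EtCoh.Ab U.left) (q : ℕ), d < q → Subsingleton (EtCoh.H U.left F q))
    (hX : ∀ U : X.Etale, CompactSpace ↥(U.left) → QuasiSeparatedSpace ↥(U.left) →
      ∃ d : ℕ, ∀ (F : EtCoh.Ab U.left) (q : ℕ), d < q → Subsingleton (EtCoh.H U.left F q))
    (ι : Type (u + 1)) :
    PreservesColimitsOfShape (Discrete ι) (letI := iX; letI := iS;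
      resFunctor (EtCoh.Ab X) ⋙ (EtCoh.push f).mapHomotopyCategory (.up ℤ) ⋙ DerivedCategory.Qh) := by
  haveI : IsGrothendieckAbelian.{u + 1} (EtCoh.Ab X) := inferInstance
  haveI : IsGrothendieckAbelian.{u + 1} (EtCoh.Ab S) := inferInstance
  let jX : HasDerivedCategory.{u + 1} (EtCoh.Ab X) := ModGen.hasDerivedCategory
  let jS : HasDerivedCategory.{u + 1} (EtCoh.Ab S) := ModGen.hasDerivedCategory
  haveI hX' : (letI := jX; (DerivedCategory.Qh (C := EtCoh.Ab X)).IsLeftAdjoint) :=
    (letI := jX; isLeftAdjoint_Qh KInjExists.hasKInjRes)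
  haveI hS' : (letI := jS; (DerivedCategory.Qh (C := EtCoh.Ab S)).IsLeftAdjoint) :=
    (letI := jS; isLeftAdjoint_Qh KInjExists.hasKInjRes)
  exact transfer jX iX jS iS (EtCoh.push f) ι
    (letI := jX; letI := jS; preserves_small f hS hX ι)

end Groth.Agent.Lib.EtCompact28.Main
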